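import Cfsg.Agent.Lib.Invol.LaceCheck

/-!
# The classes of involutions from the tree and the rank certificates
-/

set_option autoImplicit false
set_option linter.unusedSectionVars false
set_option linter.unusedVariables false

namespace Cfsg.Agent.Lib.Invol.Final

open Cfsg.Lie Cfsg.Agent.Lib.ChevBN.Elem Cfsg.Agent.Lib.ChevBN.Table Cfsg.Agent.Lib.ChevBN.Fast
open Cfsg.Agent.Lib.ChevBN.Collect Cfsg.Agent.Lib.ChevBN.Rel
open Cfsg.Agent.Lib.Invol.Lace Cfsg.Agent.Lib.Invol.Walk Cfsg.Agent.Lib.Invol.BitRank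

variable {D : ChevalleyDatum} {F : Type*} [Field F] [CharP F 2] {η : ℕ → ℕ → ℤ}

theorem Tr_mem (hA : AddRel D F) (R : List ℕ) (hR' : ∀ r ∈ R, r < D.nroots) : Tr hA R ∈ D.group F := by
  rw [group_eq hA, Tr]
  apply W_mem_gen
  intro p hp
  obtain ⟨r, hr, rfl⟩ := List.mem_map.mp hp
  exact hR' r hr

theorem Tr_sq {hA : AddRel D F} (hc : CommPos hA) (hL : Lace D) : ∀ R : List ℕ, (∀ r ∈ R, D.IsPosRoot r) →
    (R.Pairwise fun r s => ip D r s = 0) → Tr hA R * Tr hA R = 1 := by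
  intro R
  induction R with
  | nil =>
    intro _ _
    simp
  | cons r R ih =>
    intro hpos hor
    rw [List.pairwise_cons] at hor
    have hcomm : Commute (X hA r 1) (Tr hA R) := by
      rw [Tr, W]
      apply Commute.list_prod_right
      intro x hx
      obtain ⟨p, hp, rfl⟩ := List.mem_map.mp hx
      obtain ⟨s, hs, rfl⟩ := List.mem_map.mp hp
      have hps := hpos s (by simp [hs])
      have hpr := hpos r (by simp)
      exact comm_of_ip hL hc hpr hps (by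
        rw [hL.ip_comm s r hps hpr, hor.1 s hs]) 1 1
    rw [Tr_cons]
    calc X hA r 1 * Tr hA R * (X hA r 1 * Tr hA R)
        = X hA r 1 * (Tr hA R * X hA r 1) * Tr hA R := by group
      _ = X hA r 1 * (X hA r 1 * Tr hA R) * Tr hA R := by rw [hcomm.eq]
      _ = (X hA r 1 * X hA r 1) * (Tr hA R * Tr hA R) := by group
      _ = 1 := by rw [X_self, ih (fun s hs => hpos s (by simp [hs])) hor.2, one_mul]

/-- The package of hypotheses. -/
structure Pack (D : ChevalleyDatum) (T : FastTab) (info : List ℕ → Info) (K : ℕ) (Reps : List (List ℕ))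
    (cert : List ℕ → List (ℕ × ℕ × ℕ)) : Prop where
  hT : Tbl D
  hL : Lace D
  hS : Spec T D
  tree : chkTree T D info ([] :: Reps) K [] = true
  pos : ∀ rep ∈ Reps, ∀ r ∈ rep, D.IsPosRoot r
  orth : ∀ rep ∈ Reps, rep.Pairwise fun r s => ip D r s = 0
  rank : ∀ rep ∈ Reps, chkRank D rep (cert rep) = true
  ne0 : ∀ rep ∈ Reps, (cert rep).length ≠ 0
  inj : ∀ rep₁ ∈ Reps, ∀ rep₂ ∈ Reps, (cert rep₁).length = (cert rep₂).length → rep₁ = rep₂

section Main

variable {T : FastTab} {info : List ℕ → Info} {K : ℕ} {Reps : List (List ℕ)}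
  {cert : List ℕ → List (ℕ × ℕ × ℕ)} (hP : Pack D T info K Reps cert) (hR : Sys D F η)

include hP hR

theorem rep_mem {rep : List ℕ} (h : rep ∈ Reps) : Tr hR.toAddRel rep ∈ D.group F :=
  Tr_mem _ rep fun r hr => (hP.pos rep h r hr).1

theorem rep_ne_one {rep : List ℕ} (h : rep ∈ Reps) : Tr hR.toAddRel rep ≠ 1 := by
  intro h1
  have h2 := rank_eq hR.toAddRel (hP.rank rep h)
  rw [h1] at h2
  simp only [Units.val_one, sub_self, Matrix.rank_zero] at h2
  exact hP.ne0 rep h h2.symm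

theorem rep_order {rep : List ℕ} (h : rep ∈ Reps) : orderOf (Tr hR.toAddRel rep) = 2 := by
  have : Fact (Nat.Prime 2) := ⟨Nat.prime_two⟩
  apply orderOf_eq_prime
  · rw [pow_two]
    exact Tr_sq (commPos hR) hP.hL rep (hP.pos rep h) (hP.orth rep h)
  · exact rep_ne_one hP hR h

theorem exists_rep [Fintype F] {g : GL D.Idx F} (hg : g ∈ D.group F) (h2 : orderOf g = 2) :
    ∃ rep ∈ Reps, CJ D g (Tr hR.toAddRel rep) := by
  have hg2 : g * g = 1 := by
    rw [← pow_two, ← h2, pow_orderOf_eq_one]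
  obtain ⟨R, h3, h4, h5⟩ := conj_orth hR hP.hT hP.hL hg hg2
  obtain ⟨rep, h6, h7⟩ := walk hR hP.hT hP.hL hP.hS hP.tree (by
    intro tgt htgt
    rcases List.mem_cons.mp htgt with rfl | htgt
    · simp
    · exact ⟨hP.pos tgt htgt, hP.orth tgt htgt⟩) R h3 h4
  rcases List.mem_cons.mp h6 with rfl | h6
  · exfalso
    obtain ⟨x, hx, hx2⟩ := h5.trans h7
    rw [Tr_nil] at hx2
    have : g = 1 := by
      have h8 : g = x⁻¹ * (x * g * x⁻¹) * x := by group
      rw [h8, hx2]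
      group
    rw [this, orderOf_one] at h2
    omega
  · exact ⟨rep, h6, h5.trans h7⟩

theorem rep_inj {rep₁ rep₂ : List ℕ} (h₁ : rep₁ ∈ Reps) (h₂ : rep₂ ∈ Reps)
    (h : CJ D (Tr hR.toAddRel rep₁) (Tr hR.toAddRel rep₂)) : rep₁ = rep₂ := by
  obtain ⟨x, -, hx⟩ := h
  apply hP.inj rep₁ h₁ rep₂ h₂
  rw [← rank_eq (F := F) hR.toAddRel (hP.rank rep₁ h₁), ← rank_eq (F := F) hR.toAddRel (hP.rank rep₂ h₂), ← hx,
    rank_conj]

/-- The number of classes. -/
theorem card_classes [Fintype F] (hn : Reps.Nodup) :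
    (ConjClasses.mk '' {g : ↥(D.group F) | orderOf g = 2}).ncard = Reps.length := by
  classical
  set φ : {rep // rep ∈ Reps} → ConjClasses ↥(D.group F) :=
    fun rep => ConjClasses.mk ⟨Tr hR.toAddRel rep.1, rep_mem hP hR rep.2⟩ with hφ
  have hinj : Function.Injective φ := by
    rintro ⟨a, ha⟩ ⟨b, hb⟩ hab
    rw [hφ] at hab
    simp only [ConjClasses.mk_eq_mk_iff_isConj] at hab
    obtain ⟨c, hc⟩ := isConj_iff.mp hab
    apply Subtype.ext
    refine rep_inj hP hR ha hb ⟨c.1, c.2, ?_⟩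
    have := congrArg Subtype.val hc
    simpa using this
  have hset : ConjClasses.mk '' {g : ↥(D.group F) | orderOf g = 2} = Set.range φ := by
    ext c
    constructor
    · rintro ⟨g, hg, rfl⟩
      have hg' : orderOf (g : GL D.Idx F) = 2 := by
        rw [Subgroup.orderOf_coe]
        exact hg
      obtain ⟨rep, h1, x, hx, hx2⟩ := exists_rep hP hR g.2 hg'
      refine ⟨⟨rep, h1⟩, ?_⟩
      rw [hφ]
      simp only [ConjClasses.mk_eq_mk_iff_isConj]
      refine IsConj.symm (isConj_iff.mpr ⟨⟨x, hx⟩, Subtype.ext ?_⟩)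
      simpa using hx2
    · rintro ⟨⟨rep, h1⟩, rfl⟩
      refine ⟨⟨Tr hR.toAddRel rep, rep_mem hP hR h1⟩, ?_, rfl⟩
      show orderOf (⟨Tr hR.toAddRel rep, rep_mem hP hR h1⟩ : ↥(D.group F)) = 2
      rw [← Subgroup.orderOf_coe]
      exact rep_order hP hR h1
  rw [hset, ← Set.image_univ, Set.ncard_image_of_injective _ hinj, Set.ncard_univ,
    Nat.subtype_card Reps.toFinset (fun x => List.mem_toFinset), List.toFinset_card_of_nodup hn]

/-- The statement on the representatives. -/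
theorem stmt [Fintype F] {ls : List (Matrix D.Idx D.Idx F)}
    (hls : ls = Reps.map fun rep => ((Tr hR.toAddRel rep : GL D.Idx F) : Matrix D.Idx D.Idx F)) :
    (∀ y : GL D.Idx F, ((y : GL D.Idx F) : Matrix D.Idx D.Idx F) ∈ ls → y ∈ D.group F ∧ orderOf y = 2) ∧
    (∀ g ∈ D.group F, orderOf g = 2 → ∃ y ∈ D.group F, ((y : GL D.Idx F) : Matrix D.Idx D.Idx F) ∈ ls ∧
      ∃ h ∈ D.group F, h * g * h⁻¹ = y) ∧
    (∀ y₁ ∈ D.group F, ∀ y₂ ∈ D.group F, ((y₁ : GL D.Idx F) : Matrix D.Idx D.Idx F) ∈ ls →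
      ((y₂ : GL D.Idx F) : Matrix D.Idx D.Idx F) ∈ ls →
      (∃ h ∈ D.group F, h * y₁ * h⁻¹ = y₂) →
      ((y₁ : GL D.Idx F) : Matrix D.Idx D.Idx F) = ((y₂ : GL D.Idx F) : Matrix D.Idx D.Idx F)) := by
  subst hls
  have hm : ∀ {y : GL D.Idx F}, ((y : GL D.Idx F) : Matrix D.Idx D.Idx F) ∈
      Reps.map (fun rep => ((Tr hR.toAddRel rep : GL D.Idx F) : Matrix D.Idx D.Idx F)) →
      ∃ rep ∈ Reps, y = Tr hR.toAddRel rep := by
    intro y hy
    obtain ⟨rep, hrep, he⟩ := List.mem_map.mp hy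
    exact ⟨rep, hrep, Units.ext he.symm⟩
  refine ⟨?_, ?_, ?_⟩
  · intro y hy
    obtain ⟨rep, hrep, rfl⟩ := hm hy
    exact ⟨rep_mem hP hR hrep, rep_order hP hR hrep⟩
  · intro g hg hg2
    obtain ⟨rep, hrep, x, hx, hx2⟩ := exists_rep hP hR hg hg2
    exact ⟨Tr hR.toAddRel rep, rep_mem hP hR hrep, List.mem_map.mpr ⟨rep, hrep, rfl⟩, x, hx, hx2⟩
  · intro y₁ _ y₂ _ h₁ h₂ h
    obtain ⟨rep₁, hrep₁, rfl⟩ := hm h₁
    obtain ⟨rep₂, hrep₂, rfl⟩ := hm h₂
    rw [rep_inj hP hR hrep₁ hrep₂ h]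

end Main

end Cfsg.Agent.Lib.Invol.Final
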