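import Cfsg.Agent.Lib.Invol.BitRank

/-!
# Checking the simply-laced table facts
-/

set_option autoImplicit false
set_option linter.unusedSectionVars false
set_option linter.unusedVariables false

namespace Cfsg.Agent.Lib.Invol.LaceCheck

open Cfsg.Lie Cfsg.Agent.Lib.ChevBN.Table Cfsg.Agent.Lib.ChevBN.Fast
open Cfsg.Agent.Lib.Invol.Lace Cfsg.Agent.Lib.Invol.Walk

/-- The candidate for `s - r`. -/
def descV (D : ChevalleyDatum) (r s : ℕ) : ℕ :=
  ((D.chain.getD r #[]).toList.find? fun e => (e.2.toList.head?.map Prod.fst) = some s).elim 0 Prod.fst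

/-- The sum check. -/
def sumOK (T : FastTab) (D : ChevalleyDatum) (r s c : ℕ) : Bool :=
  decide (c < D.nroots) && (List.range D.rank).all fun j =>
    decide (T.R D c j = T.R D r j + T.R D s j) && decide (T.C D j c = T.C D j r + T.C D j s)

/-- The check for a pair of positive roots. -/
def chkPair (T : FastTab) (D : ChevalleyDatum) (r s : ℕ) : Bool :=
  if r = s then decide (T.Adf D r r = 2) else
    decide (T.Adf D r s = T.Adf D s r) && decide (T.Adf D r s ≤ 1) &&
    (match D.commTerms r s with
      | [] => decide (0 ≤ T.Adf D r s)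
      | [(c, ε, i, j)] => decide (i = 1) && decide (j = 1) && (decide (ε = 1) || decide (ε = -1)) &&
          decide (T.Adf D r s = -1) && sumOK T D r s c
      | _ => false) &&
    (!(decide (r < s) && decide (T.Adf D r s = 1)) ||
      (decide (D.nroots / 2 ≤ descV D r s) && decide (descV D r s < D.nroots) &&
        decide (r ≠ descV D r s) &&
        D4.isSumB D r (descV D r s) s))

/-- The check of a row. -/
def chkRow (T : FastTab) (D : ChevalleyDatum) (r : ℕ) : Bool :=
  (List.range' (D.nroots / 2) (D.nroots - D.nroots / 2)).all (chkPair T D r)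

/-- The height with weights `w`, from the packed tables. -/
def htT (T : FastTab) (D : ChevalleyDatum) (w : ℕ → ℤ) (r : ℕ) : ℤ :=
  ((List.range D.rank).map fun j => T.R D r j * w j).sum

/-- The check of the order: the height increases along the positive roots. -/
def chkMono (T : FastTab) (D : ChevalleyDatum) (w : ℕ → ℤ) : Bool :=
  (List.range D.rank).all (fun j => decide (0 < w j)) &&
  (List.range' (D.nroots / 2) (D.nroots - D.nroots / 2 - 1)).all fun r =>
    decide (htT T D w r < htT T D w (r + 1))

theorem Ad_eq_Adf {T : FastTab} {D : ChevalleyDatum} (hS : Spec T D) {r s : ℕ} (hr : r < D.nroots)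
    (hs : s < D.nroots) : ip D r s = T.Adf D r s := by
  rw [ip, Ad, FastTab.Adf]
  congr 1
  apply List.map_congr_left
  intro j hj
  have hj' := List.mem_range.mp hj
  rw [hS.hC j hj' s hs, hS.hR r hr j hj']

theorem lace_of_chk {T : FastTab} {D : ChevalleyDatum} (hS : Spec T D) (hT : Tbl D) {w : ℕ → ℤ}
    (hrow : ∀ r ∈ List.range' (D.nroots / 2) (D.nroots - D.nroots / 2), chkRow T D r = true)
    (hmono : chkMono T D w = true) : Lace D := by
  have hmem : ∀ {r}, D.IsPosRoot r → r ∈ List.range' (D.nroots / 2) (D.nroots - D.nroots / 2) := by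
    intro r hr
    have h1 := (hT.good.pos_half r hr).1
    have h2 := hr.1
    rw [List.mem_range'_1]
    omega
  have hpair : ∀ r s, D.IsPosRoot r → D.IsPosRoot s → chkPair T D r s = true := by
    intro r s hr hs
    have := hrow r (hmem hr)
    rw [chkRow, List.all_eq_true] at this
    exact this s (hmem hs)
  have hself : ∀ r, D.IsPosRoot r → ip D r r = 2 := by
    intro r hr
    have := hpair r r hr hr
    rw [chkPair, if_pos rfl] at this
    rw [Ad_eq_Adf hS hr.1 hr.1]
    simpa using this
  have hne : ∀ r s, D.IsPosRoot r → D.IsPosRoot s → r ≠ s →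
      ip D r s = ip D s r ∧ ip D r s ≤ 1 ∧
      ((D.commTerms r s = [] ∧ 0 ≤ ip D r s) ∨
        (∃ c, IsSum D r s c ∧ ip D r s = -1 ∧ (∀ j < D.rank, cr D c j = cr D r j + cr D s j) ∧
          (∀ j < D.rank, D.cartan j c = D.cartan j r + D.cartan j s))) ∧
      ((r < s ∧ ip D r s = 1) → ∃ v, D.IsPosRoot v ∧ r ≠ v ∧ IsSum D r v s) := by
    intro r s hr hs hrs
    have h := hpair r s hr hs
    rw [chkPair, if_neg hrs] at h
    simp only [Bool.and_eq_true, decide_eq_true_eq] at h
    obtain ⟨⟨⟨h1, h2⟩, h3⟩, h4⟩ := h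
    rw [← Ad_eq_Adf hS hr.1 hs.1, ← Ad_eq_Adf hS hs.1 hr.1] at h1
    rw [← Ad_eq_Adf hS hr.1 hs.1] at h2
    refine ⟨h1, h2, ?_, ?_⟩
    · split at h3
      · rename_i hcT
        left
        refine ⟨hcT, ?_⟩
        rw [Ad_eq_Adf hS hr.1 hs.1]
        simpa using h3
      · rename_i c ε i j hcT
        simp only [sumOK, Bool.and_eq_true, decide_eq_true_eq, Bool.or_eq_true, List.all_eq_true] at h3
        obtain ⟨⟨⟨⟨hi, hj⟩, hε⟩, ha⟩, hc, hall⟩ := h3
        subst hi hj
        right
        refine ⟨c, ⟨ε, hcT, hε⟩, ?_, ?_, ?_⟩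
        · rw [Ad_eq_Adf hS hr.1 hs.1]
          exact ha
        · intro j hj
          rw [hS.hR c hc j hj, hS.hR r hr.1 j hj, hS.hR s hs.1 j hj]
          exact (hall j (List.mem_range.mpr hj)).1
        · intro j hj
          rw [hS.hC j hj c hc, hS.hC j hj r hr.1, hS.hC j hj s hs.1]
          exact (hall j (List.mem_range.mpr hj)).2
      · simp at h3
    · rintro ⟨hlt, hip⟩
      simp only [Bool.or_eq_true, Bool.not_eq_true', Bool.and_eq_false_iff, decide_eq_false_iff_not,
        Bool.and_eq_true, decide_eq_true_eq] at h4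
      rw [Ad_eq_Adf hS hr.1 hs.1] at hip
      rcases h4 with (h4 | h4) | h4
      · exact absurd hlt h4
      · exact absurd hip h4
      · obtain ⟨⟨⟨h5, h6⟩, h7⟩, h8⟩ := h4
        have hv : D.IsPosRoot (descV D r s) := by
          rcases hT.pos_or_neg h6 with h9 | h9
          · exact h9
          · have := (hT.good.neg_half _ h9).1
            omega
        refine ⟨descV D r s, hv, h7, ?_⟩
        simp only [D4.isSumB, Bool.or_eq_true, decide_eq_true_eq] at h8
        rcases h8 with h8 | h8
        · exact ⟨1, h8, Or.inl rfl⟩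
        · exact ⟨-1, h8, Or.inr rfl⟩
  refine ⟨?_, ?_, hself, ?_, ?_, ?_⟩
  · intro r s hr hs hrs
    exact (hne r s hr hs hrs).2.2.1
  · intro r s hr hs
    by_cases hrs : r = s
    · subst hrs
      rfl
    · exact (hne r s hr hs hrs).1
  · intro r s hr hs hrs
    exact (hne r s hr hs hrs).2.1
  · intro r s hr hs hrs hip
    exact (hne r s hr hs hrs.ne).2.2.2 ⟨hrs, hip⟩
  · simp only [chkMono, Bool.and_eq_true, List.all_eq_true, decide_eq_true_eq] at hmono
    obtain ⟨h1, h2⟩ := hmono
    have hht : ∀ r < D.nroots, ht D w r = htT T D w r := by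
      intro r hr
      rw [ht, htT]
      congr 1
      apply List.map_congr_left
      intro j hj
      rw [hS.hR r hr j (List.mem_range.mp hj)]
    refine ⟨w, fun j hj => h1 j (List.mem_range.mpr hj), ?_⟩
    intro r s hr hs hrs
    have hr1 := (hT.good.pos_half r hr).1
    have hs2 := hs.1
    rw [hht r hr.1, hht s hs.1]
    have key : ∀ k, r + k + 1 < D.nroots → htT T D w r < htT T D w (r + k + 1) := by
      intro k
      induction k with
      | zero =>
        intro hk
        exact h2 r (by rw [List.mem_range'_1]; omega)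
      | succ k ih =>
        intro hk
        have h3 := ih (by omega)
        have h4 := h2 (r + k + 1) (by rw [List.mem_range'_1]; omega)
        exact lt_trans h3 h4
    obtain ⟨k, rfl⟩ : ∃ k, s = r + k + 1 := ⟨s - r - 1, by omega⟩
    exact key k hs2

end Cfsg.Agent.Lib.Invol.LaceCheck
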